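import Cfsg.Agent.Lib.KnownA.ON.PM.Data

set_option autoImplicit false
set_option maxRecDepth 100000

namespace CfsgLib.KnownA.ONData.PM

open CfsgLib.InvChar.Coset CfsgLib.KnownA.CosetInv

theorem chk_facts0 : cert.chkBlocks 32 0 = true := by decide +kernel

end CfsgLib.KnownA.ONData.PM
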